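import Groth.Agent.Lib.LimH13.NhdLimit
import Mathlib.AlgebraicGeometry.Morphisms.QuasiSeparated

/-!
# Glueing a morphism near a closed point

Morphisms agreeing on all spectra of local rings are equal; a morphism on the spectrum of a local ring and
one on a quasi-compact open complement glue, for targets locally of finite presentation.
-/

universe u

open CategoryTheory Limits AlgebraicGeometry Opposite TopologicalSpace

set_option backward.isDefEq.respectTransparency false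
set_option backward.isDefEq.respectTransparency.types false
set_option linter.style.haveILetI false

noncomputable section

namespace Groth.Agent.GlueClosed13

open Groth.Agent.LimH13

theorem hom_ext_of_stalks {X Y : Scheme.{u}} (f g : X ⟶ Y)
    (h : ∀ y : X, X.fromSpecStalk y ≫ f = X.fromSpecStalk y ≫ g) : f = g := by
  have hpt : ∀ y : X, f y = g y := fun y => by
    have := congr(($(h y)) (IsLocalRing.closedPoint (X.presheaf.stalk y)))
    simpa [Scheme.fromSpecStalk_closedPoint] using this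
  refine Scheme.Hom.ext (TopCat.hom_ext (ContinuousMap.ext hpt)) fun U => ?_
  ext s
  refine TopCat.Presheaf.section_ext X.sheaf _ _ _ fun y hy => ?_
  have hs : g y ⤳ f y := (Inseparable.of_eq (hpt y).symm).specializes
  have h1 : Y.presheaf.stalkSpecializes hs ≫ g.stalkMap y = f.stalkMap y := by
    apply Spec.map_injective
    rw [← cancel_mono (Y.fromSpecStalk (f y)), Spec.map_comp, Category.assoc,
      Scheme.SpecMap_stalkSpecializes_fromSpecStalk, Scheme.SpecMap_stalkMap_fromSpecStalk,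
      Scheme.SpecMap_stalkMap_fromSpecStalk, h y]
  have hgU : g y ∈ U := hy
  have hfU : f y ∈ U := by rw [hpt y]; exact hgU
  have h2 := congr((Y.presheaf.germ U (f y) hfU ≫ $h1) s)
  simp only [← Category.assoc, TopCat.Presheaf.germ_stalkSpecializes, Scheme.Hom.germ_stalkMap] at h2
  refine Eq.trans (TopCat.Presheaf.germ_res_apply X.presheaf _ y hy _) ?_
  change X.presheaf.germ (f ⁻¹ᵁ U) y hfU (f.app U s) = X.presheaf.germ (g ⁻¹ᵁ U) y hgU (g.app U s)
  exact h2.symm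

variable {X Y S : Scheme.{u}}

theorem hom_ext_stalk_open (x : X) (U : X.Opens) (hU : (U : Set X) = {x}ᶜ) (g₁ g₂ : X ⟶ Y)
    (hUg : U.ι ≫ g₁ = U.ι ≫ g₂) (hx : X.fromSpecStalk x ≫ g₁ = X.fromSpecStalk x ≫ g₂) : g₁ = g₂ := by
  refine hom_ext_of_stalks g₁ g₂ fun y => ?_
  by_cases hy : y = x
  · subst hy; exact hx
  · have hyU : y ∈ U := by rw [← SetLike.mem_coe, hU]; exact hy
    rw [← U.fromSpecStalkOfMem_ι y hyU, Category.assoc, Category.assoc, hUg]

section Stage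

variable {I : Type u} [SmallCategory I] [IsCofiltered I] (D : I ⥤ Scheme.{u})
  [∀ {i i' : I} (e : i ⟶ i'), IsAffineHom (D.map e)] (c : Cone D) (hc : IsLimit c)
  (j : ∀ k, D.obj k ⟶ X) (hj : ∀ {k k' : I} (e : k ⟶ k'), D.map e ≫ j k' = j k) (U : X.Opens) (p : X ⟶ S) (q : Y ⟶ S)

include hc hj in
/-- Two morphisms which agree over an open at the limit agree over it at a finite stage. -/
theorem exists_stage_agree [LocallyOfFiniteType q] (hU : ∀ k, IsCompact ((j k ⁻¹ᵁ U : (D.obj k).Opens) : Set (D.obj k)))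
    (a : (U : Scheme.{u}) ⟶ Y) (ha : a ≫ q = U.ι ≫ p) {i : I} (g : D.obj i ⟶ Y) (hg : g ≫ q = j i ≫ p)
    (hab : (c.π.app i ≫ j i).resLE U _ le_rfl ≫ a = ((c.π.app i ≫ j i) ⁻¹ᵁ U).ι ≫ c.π.app i ≫ g) :
    ∃ (k : I) (e : k ⟶ i), (j k).resLE U _ le_rfl ≫ a = (j k ⁻¹ᵁ U).ι ≫ D.map e ≫ g := by
  have hpre : ∀ (k : Over i), D.map k.hom ⁻¹ᵁ j i ⁻¹ᵁ U = j k.left ⁻¹ᵁ U := fun k => by
    rw [← Scheme.Hom.comp_preimage, hj]
  let D' := opensDiagram D i (j i ⁻¹ᵁ U)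
  haveI : ∀ k, CompactSpace (D'.obj k) := fun k => isCompact_iff_compactSpace.mp (by
    change IsCompact ((D.map k.hom ⁻¹ᵁ j i ⁻¹ᵁ U : (D.obj k.left).Opens) : Set (D.obj k.left))
    rw [hpre]; exact hU _)
  let t' : D' ⟶ (Functor.const _).obj S :=
    { app := fun k => (D.map k.hom ⁻¹ᵁ j i ⁻¹ᵁ U).ι ≫ j k.left ≫ p
      naturality := fun k k' e => by
        change (D.map e.left).resLE _ _ _ ≫ _ = _ ≫ 𝟙 _
        rw [Category.comp_id, Scheme.Hom.resLE_comp_ι_assoc, reassoc_of% hj] }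
  let i0 : Over i := Over.mk (𝟙 i)
  let A : D'.obj i0 ⟶ Y :=
    (D.map i0.hom ≫ j i).resLE U (D.map i0.hom ⁻¹ᵁ j i ⁻¹ᵁ U) (by rw [Scheme.Hom.comp_preimage]) ≫ a
  let B : D'.obj i0 ⟶ Y := (D.map i0.hom ⁻¹ᵁ j i ⁻¹ᵁ U).ι ≫ D.map i0.hom ≫ g
  have hA : t'.app i0 = A ≫ q := by
    simp only [t', A, Category.assoc, ha, Scheme.Hom.resLE_comp_ι_assoc, reassoc_of% hj]
  have hB : t'.app i0 = B ≫ q := by
    simp only [t', B, Category.assoc, hg, reassoc_of% hj]
  have hAB : (opensCone D c i (j i ⁻¹ᵁ U)).π.app i0 ≫ A = (opensCone D c i (j i ⁻¹ᵁ U)).π.app i0 ≫ B := by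
    change (c.π.app i).resLE (D.map i0.hom ⁻¹ᵁ j i ⁻¹ᵁ U) (c.π.app i ⁻¹ᵁ j i ⁻¹ᵁ U) _ ≫ A =
      (c.π.app i).resLE (D.map i0.hom ⁻¹ᵁ j i ⁻¹ᵁ U) (c.π.app i ⁻¹ᵁ j i ⁻¹ᵁ U) _ ≫ B
    simp only [A, B, Scheme.Hom.resLE_comp_resLE_assoc, Scheme.Hom.resLE_comp_ι_assoc]
    have e : D.map i0.hom = 𝟙 _ := D.map_id i
    have e1 : (c.π.app i ≫ D.map i0.hom ≫ j i) = c.π.app i ≫ j i := by rw [hj i0.hom]; rfl
    have e2 : c.π.app i ≫ D.map i0.hom ≫ g = c.π.app i ≫ g := by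
      rw [← Category.assoc]; congr 1; rw [e]; exact Category.comp_id _
    rw [e2]
    refine Eq.trans ?_ hab
    congr 1
    rw [← cancel_mono U.ι, Scheme.Hom.resLE_comp_ι, Scheme.Hom.resLE_comp_ι, e1]
    rfl
  obtain ⟨k, hik, hk⟩ := Scheme.exists_hom_comp_eq_comp_of_locallyOfFiniteType D' t' q
    (opensCone D c i (j i ⁻¹ᵁ U)) (isLimitOpensCone D c hc i _) A B hA hB hAB
  refine ⟨k.left, k.hom, ?_⟩
  have hw : hik.left ≫ i0.hom = k.hom := Over.w hik
  have hle : j k.left ⁻¹ᵁ U ≤ D.map k.hom ⁻¹ᵁ j i ⁻¹ᵁ U := (hpre k).ge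
  have h2 := congr((D.obj k.left).homOfLE hle ≫ $hk)
  change _ ≫ (D.map hik.left).resLE (D.map i0.hom ⁻¹ᵁ j i ⁻¹ᵁ U) _ _ ≫ A =
    _ ≫ (D.map hik.left).resLE (D.map i0.hom ⁻¹ᵁ j i ⁻¹ᵁ U) _ _ ≫ B at h2
  simp only [A, B, Scheme.Hom.resLE_comp_resLE_assoc, Scheme.Hom.resLE_comp_ι_assoc,
    Scheme.homOfLE_ι_assoc] at h2
  have h3 : D.map hik.left ≫ D.map i0.hom ≫ g = D.map k.hom ≫ g := by rw [← Functor.map_comp_assoc, hw]
  rw [h3] at h2
  rw [← h2, ← Category.assoc]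
  congr 1
  rw [← cancel_mono U.ι]
  simp only [Category.assoc, Scheme.Hom.resLE_comp_ι, Scheme.homOfLE_ι_assoc, hj]

end Stage

theorem exists_glue (p : X ⟶ S) (q : Y ⟶ S) [LocallyOfFinitePresentation q] (x : X) (U : X.Opens)
    (hU : (U : Set X) = {x}ᶜ) [QuasiCompact U.ι] (a : (U : Scheme.{u}) ⟶ Y)
    (b : Spec (X.presheaf.stalk x) ⟶ Y) (ha : a ≫ q = U.ι ≫ p) (hb : b ≫ q = X.fromSpecStalk x ≫ p)
    (hab : ((X.fromSpecStalk x) ⁻¹ᵁ U).ι ≫ b = ((X.fromSpecStalk x) ∣_ U) ≫ a) :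
    ∃ g : X ⟶ Y, g ≫ q = p ∧ U.ι ≫ g = a ∧ X.fromSpecStalk x ≫ g = b := by
  obtain ⟨_, ⟨V, hV, rfl⟩, hxV, -⟩ := X.isBasis_affineOpens.exists_subset_of_mem_open (Set.mem_univ x) isOpen_univ
  let V' : X.affineOpens := ⟨V, hV⟩
  haveI := Nhd.isDirected x V'
  haveI : Nonempty (Nhd.Idx x V') := ⟨⟨1, by rw [Scheme.basicOpen_of_isUnit _ isUnit_one]; exact hxV⟩⟩
  haveI : IsFiltered (Nhd.Idx x V') := isFiltered_of_directed_le_nonempty _
  let D := Nhd.diag x V'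
  haveI haff : ∀ k, IsAffine (D.obj k) := fun k => V'.2.basicOpen _
  haveI : ∀ {k k' : (Nhd.Idx x V')ᵒᵖ} (e : k ⟶ k'), IsAffineHom (D.map e) := fun e => Nhd.isAffineHom_map x V' e
  haveI : ∀ k, CompactSpace (D.obj k) := fun k => inferInstance
  haveI : ∀ k, QuasiSeparatedSpace (D.obj k) := fun k => inferInstance
  let j : ∀ k, D.obj k ⟶ X := fun k => (X.basicOpen k.unop.1).ι
  have hj : ∀ {k k'} (e : k ⟶ k'), D.map e ≫ j k' = j k := fun e => Scheme.homOfLE_ι X ((Nhd.le_iff x V').1 e.unop.le)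
  have hcj : ∀ k, (Nhd.cone x V').π.app k ≫ j k = X.fromSpecStalk x := fun k =>
    Scheme.Opens.fromSpecStalkOfMem_ι _ _ _
  let t : D ⟶ (Functor.const _).obj S :=
    { app := fun k => j k ≫ p
      naturality := fun k k' e => by
        change D.map e ≫ j k' ≫ p = (j k ≫ p) ≫ 𝟙 _
        rw [Category.comp_id, ← Category.assoc, hj] }
  obtain ⟨i, g, hg, hgq⟩ := Scheme.exists_π_app_comp_eq_of_locallyOfFinitePresentation D t q
    (Nhd.cone x V') (Nhd.isLimit x V' hxV) b (by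
      ext k : 2
      change (Nhd.cone x V').π.app k ≫ j k ≫ p = b ≫ q
      rw [← Category.assoc, hcj, hb])
  obtain ⟨k, e, hk⟩ := exists_stage_agree D (Nhd.cone x V') (Nhd.isLimit x V' hxV) j hj U p q (fun k => by
      refine ((j k).isOpenEmbedding.isInducing.isCompact_iff).mpr ?_
      change IsCompact ((X.basicOpen k.unop.1).ι '' ((X.basicOpen k.unop.1).ι ⁻¹' (U : Set X)))
      rw [Set.image_preimage_eq_inter_range, Scheme.Opens.range_ι]
      have := (QuasiCompact.isCompact_preimage (f := U.ι) (X.basicOpen k.unop.1) (X.basicOpen k.unop.1).2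
        (V'.2.basicOpen _).isCompact).image U.ι.continuous
      rwa [Set.image_preimage_eq_inter_range, Scheme.Opens.range_ι, Set.inter_comm] at this)
    a ha g hgq (by
      rw [hg]
      have e : ((Nhd.cone x V').π.app i ≫ j i) ⁻¹ᵁ U = (X.fromSpecStalk x) ⁻¹ᵁ U := by rw [hcj]
      refine Eq.trans ?_ ((congrArg ((Spec (X.presheaf.stalk x)).homOfLE e.le ≫ ·) hab).symm.trans
        (Scheme.homOfLE_ι_assoc _ _ _))
      change _ = (Spec (X.presheaf.stalk x)).homOfLE e.le ≫ (X.fromSpecStalk x ∣_ U) ≫ a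
      rw [← Category.assoc]
      congr 1
      rw [← cancel_mono U.ι]
      simp only [Category.assoc, Scheme.Hom.resLE_comp_ι, morphismRestrict_ι, hcj]
      exact (Scheme.homOfLE_ι_assoc _ _ _).symm)
  let W : X.Opens := X.basicOpen k.unop.1
  let g' : (W : Scheme.{u}) ⟶ Y := D.map e ≫ g
  have hag : W.ι.resLE U (W.ι ⁻¹ᵁ U) le_rfl ≫ a = (W.ι ⁻¹ᵁ U).ι ≫ g' := hk
  let Us : Bool → X.Opens := fun r => bif r then U else W
  have hcov : iSup Us = ⊤ := by
    refine top_le_iff.mp fun y _ => Opens.mem_iSup.mpr ?_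
    by_cases hy : y = x
    · exact ⟨false, hy ▸ k.unop.2⟩
    · exact ⟨true, show y ∈ U by rw [← SetLike.mem_coe, hU]; exact hy⟩
  let 𝒰 := X.openCoverOfIsOpenCover Us (.mk hcov)
  let f : ∀ r : 𝒰.I₀, 𝒰.X r ⟶ Y := fun r => match r with
    | true => a
    | false => g'
  have key : pullback.fst U.ι W.ι ≫ a = pullback.snd U.ι W.ι ≫ g' := by
    have hr : Set.range (pullback.snd U.ι W.ι).base ⊆ Set.range (W.ι ⁻¹ᵁ U).ι.base := by
      rw [Scheme.Opens.range_ι]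
      rintro _ ⟨z, rfl⟩
      change W.ι (pullback.snd U.ι W.ι z) ∈ U
      rw [← Scheme.Hom.comp_apply, ← pullback.condition, Scheme.Hom.comp_apply]
      exact (pullback.fst U.ι W.ι z).2
    let e' := IsOpenImmersion.lift (W.ι ⁻¹ᵁ U).ι _ hr
    have e2 : e' ≫ (W.ι ⁻¹ᵁ U).ι = pullback.snd U.ι W.ι := IsOpenImmersion.lift_fac _ _ _
    have e1 : e' ≫ W.ι.resLE U (W.ι ⁻¹ᵁ U) le_rfl = pullback.fst U.ι W.ι := by
      rw [← cancel_mono U.ι, Category.assoc, Scheme.Hom.resLE_comp_ι, reassoc_of% e2, pullback.condition]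
    rw [← e1, ← e2, Category.assoc, Category.assoc, hag]
  have hf : ∀ r r' : 𝒰.I₀, pullback.fst (𝒰.f r) (𝒰.f r') ≫ f r = pullback.snd _ _ ≫ f r' := by
    rintro (_ | _) (_ | _)
    · change pullback.fst W.ι W.ι ≫ g' = pullback.snd W.ι W.ι ≫ g'
      rw [(cancel_mono W.ι).1 (pullback.condition (f := W.ι) (g := W.ι))]
    · change pullback.fst W.ι U.ι ≫ g' = pullback.snd W.ι U.ι ≫ a
      rw [← pullbackSymmetry_hom_comp_snd (f := W.ι) (g := U.ι), ← pullbackSymmetry_hom_comp_fst (f := W.ι) (g := U.ι),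
        Category.assoc, Category.assoc, key]
    · exact key
    · change pullback.fst U.ι U.ι ≫ a = pullback.snd U.ι U.ι ≫ a
      rw [(cancel_mono U.ι).1 (pullback.condition (f := U.ι) (g := U.ι))]
  let G : X ⟶ Y := Scheme.Cover.glueMorphisms 𝒰 f hf
  have hGU : U.ι ≫ G = a := Scheme.Cover.ι_glueMorphisms 𝒰 f hf true
  have hGW : W.ι ≫ G = g' := Scheme.Cover.ι_glueMorphisms 𝒰 f hf false
  have hGx : X.fromSpecStalk x ≫ G = b := by
    rw [← W.fromSpecStalkOfMem_ι x k.unop.2, Category.assoc, hGW]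
    change (Nhd.cone x V').π.app k ≫ D.map e ≫ g = b
    rw [← Category.assoc, (Nhd.cone x V').w, hg]
  refine ⟨G, ?_, hGU, hGx⟩
  refine hom_ext_stalk_open x U hU _ _ ?_ ?_
  · rw [← Category.assoc, hGU, ha]
  · rw [← Category.assoc, hGx, hb]

end Groth.Agent.GlueClosed13
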